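import Mathlib
import Groth.Prelude.Def_GrSeg
import Groth.Prelude.Def_GrLC
import Groth.Agent.Lib.Helper9.Segre.GrProj

/-!
# Graded `k`-duals: basic facts (helper9)
-/

set_option autoImplicit false
set_option linter.unusedSectionVars false

namespace Groth.Agent.H9.GrDual

open DirectSum Groth.Agent.H9.GrProj

universe u

section KStructure

variable {k : Type u} [Field k] {R : Type u} [CommRing R] [Algebra k R]
  (𝒜 : ℤ → Submodule k R) [GradedAlgebra 𝒜]
  {M : Type u} [AddCommGroup M] [Module R M] [Module k M] [IsScalarTower k R M]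
  {τM : Type u} [SetLike τM M] [AddSubgroupClass τM M] (ℳ : ℤ → τM) [DirectSum.Decomposition ℳ] [SetLike.GradedSMul 𝒜 ℳ]

include 𝒜 in
theorem ksmul_mem (c : k) {n : ℤ} {x : M} (hx : x ∈ ℳ n) : c • x ∈ ℳ n := by
  rw [← algebraMap_smul R c x]
  have := smul_mem 𝒜 ℳ (SetLike.algebraMap_mem_graded 𝒜 c) hx
  rwa [zero_add] at this

/-- The piece `ℳ n` as a `k`-subspace. -/
def pieceK (n : ℤ) : Submodule k M where
  carrier := ℳ n
  add_mem' := add_mem
  zero_mem' := zero_mem _
  smul_mem' c _ hx := ksmul_mem 𝒜 ℳ c hx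

@[simp] theorem mem_pieceK {n : ℤ} {x : M} : x ∈ pieceK 𝒜 ℳ n ↔ x ∈ ℳ n := Iff.rfl

/-- The projection onto the degree-`n` piece as a `k`-linear map. -/
noncomputable def projL (n : ℤ) : M →ₗ[k] M where
  toFun := projM ℳ n
  map_add' := map_add _
  map_smul' c x := by
    rw [RingHom.id_apply, ← algebraMap_smul R c x,
      projM_smul_of_mem 𝒜 ℳ (SetLike.algebraMap_mem_graded 𝒜 c), sub_zero, algebraMap_smul]

@[simp] theorem projL_apply (n : ℤ) (x : M) : projL 𝒜 ℳ n x = projM ℳ n x := rfl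

end KStructure

section Proj

variable {M : Type*} [AddCommGroup M] {τM : Type*} [SetLike τM M] [AddSubgroupClass τM M] (ℳ : ℤ → τM) [DirectSum.Decomposition ℳ]

theorem sum_projM [DecidableEq M] (x : M) :
    ∑ n ∈ (DirectSum.decompose ℳ x).support, projM ℳ n x = x :=
  DirectSum.sum_support_decompose ℳ x

theorem projM_projM_same (n : ℤ) (x : M) : projM ℳ n (projM ℳ n x) = projM ℳ n x :=
  projM_of_mem_same ℳ (projM_mem ℳ n x)

theorem projM_projM_ne {n m : ℤ} (h : n ≠ m) (x : M) : projM ℳ m (projM ℳ n x) = 0 :=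
  projM_of_mem_ne ℳ (projM_mem ℳ n x) h

theorem eq_zero_of_projM_eq_zero {x : M} (h : ∀ n, projM ℳ n x = 0) : x = 0 := by
  classical
  rw [← sum_projM ℳ x]
  exact Finset.sum_eq_zero fun n _ => h n

theorem ext_projM {x y : M} (h : ∀ n, projM ℳ n x = projM ℳ n y) : x = y := by
  rw [← sub_eq_zero]
  apply eq_zero_of_projM_eq_zero ℳ
  intro n
  rw [map_sub, h n, sub_self]

theorem mem_iff_projM_eq_zero {n : ℤ} {x : M} :
    x ∈ ℳ n ↔ ∀ m, m ≠ n → projM ℳ m x = 0 := by
  constructor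
  · intro hx m hm
    exact projM_of_mem_ne ℳ hx (Ne.symm hm)
  · intro h
    have : x = projM ℳ n x := by
      apply ext_projM ℳ
      intro m
      by_cases hm : m = n
      · subst hm; rw [projM_projM_same]
      · rw [h m hm, projM_projM_ne ℳ (Ne.symm hm)]
    rw [this]
    exact projM_mem ℳ n x

end Proj

section Dual

variable {k : Type u} [Field k] {R : Type u} [CommRing R] [Algebra k R]
  (𝒜 : ℤ → Submodule k R) [GradedAlgebra 𝒜]
  {M : Type u} [AddCommGroup M] [Module R M] [Module k M] [IsScalarTower k R M]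
  {τM : Type u} [SetLike τM M] [AddSubgroupClass τM M] (ℳ : ℤ → τM) [DirectSum.Decomposition ℳ] [SetLike.GradedSMul 𝒜 ℳ]
  {D : Type u} [AddCommGroup D] [Module R D] [Module k D] [IsScalarTower k R D]
  (𝒟 : ℤ → AddSubgroup D) [DirectSum.Decomposition 𝒟] [SetLike.GradedSMul 𝒜 𝒟]
  (β : D →ₗ[k] M →ₗ[k] k) (hD : GrSeg.IsGDual R ℳ 𝒟 β)

include hD

theorem apply_eq_proj {n : ℤ} {d : D} (hd : d ∈ 𝒟 n) (x : M) :
    β d x = β d (projM ℳ (-n) x) := by
  classical
  conv_lhs => rw [← sum_projM ℳ x]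
  rw [map_sum]
  by_cases hx : -n ∈ (DirectSum.decompose ℳ x).support
  · rw [Finset.sum_eq_single_of_mem (-n) hx]
    intro m _ hm
    exact hD.vanish n d hd m hm _ (projM_mem ℳ m x)
  · rw [Finset.sum_eq_zero]
    · have : projM ℳ (-n) x = 0 := by
        rw [projM_apply]
        rw [DFinsupp.notMem_support_iff] at hx
        rw [hx]; rfl
      rw [this, map_zero]
    · intro m hm
      have hmn : m ≠ -n := fun h => hx (h ▸ hm)
      exact hD.vanish n d hd m hmn _ (projM_mem ℳ m x)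

theorem apply_proj_of_mem {m : ℤ} {x : M} (hx : x ∈ ℳ m) (d : D) :
    β d x = β (projM 𝒟 (-m) d) x := by
  classical
  conv_lhs => rw [← sum_projM 𝒟 d]
  rw [map_sum, LinearMap.sum_apply]
  by_cases hd : -m ∈ (DirectSum.decompose 𝒟 d).support
  · rw [Finset.sum_eq_single_of_mem (-m) hd]
    intro n _ hn
    exact hD.vanish n _ (projM_mem 𝒟 n d) m (by omega) x hx
  · rw [Finset.sum_eq_zero]
    · have : projM 𝒟 (-m) d = 0 := by
        rw [projM_apply]
        rw [DFinsupp.notMem_support_iff] at hd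
        rw [hd]; rfl
      rw [this, map_zero, LinearMap.zero_apply]
    · intro n hn
      have hmn : n ≠ -m := fun h => hd (h ▸ hn)
      exact hD.vanish n _ (projM_mem 𝒟 n d) m (by omega) x hx

/-- `β` is injective on `D`. -/
theorem eq_zero_of_forall {d : D} (h : ∀ x, β d x = 0) : d = 0 := by
  apply eq_zero_of_projM_eq_zero 𝒟
  intro n
  apply hD.eq_zero n _ (projM_mem 𝒟 n d)
  intro x hx
  have := apply_proj_of_mem ℳ 𝒟 β hD hx d
  rw [neg_neg] at this
  rw [← this, h]

theorem ext_D {d d' : D} (h : ∀ x, β d x = β d' x) : d = d' := by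
  rw [← sub_eq_zero]
  apply eq_zero_of_forall ℳ 𝒟 β hD
  intro x
  rw [map_sub, LinearMap.sub_apply, h x, sub_self]

/-- membership in a piece of `D` via the pairing -/
theorem mem_piece_iff {n : ℤ} {d : D} :
    d ∈ 𝒟 n ↔ ∀ m, m ≠ -n → ∀ x ∈ ℳ m, β d x = 0 := by
  constructor
  · intro hd m hm x hx
    exact hD.vanish n d hd m hm x hx
  · intro h
    rw [mem_iff_projM_eq_zero 𝒟]
    intro j hj
    apply hD.eq_zero j _ (projM_mem 𝒟 j d)
    intro x hx
    have := apply_proj_of_mem ℳ 𝒟 β hD hx d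
    rw [neg_neg] at this
    rw [← this]
    exact h (-j) (by omega) x hx

include 𝒜 in
/-- every functional gives an element of `D_n` -/
theorem exists_of_functional (g : M →ₗ[k] k) (n : ℤ) :
    ∃ d ∈ 𝒟 n, ∀ x, β d x = g (projM ℳ (-n) x) := by
  obtain ⟨d, hd, hdx⟩ := hD.exists_eq n g
  refine ⟨d, hd, fun x => ?_⟩
  rw [apply_eq_proj ℳ 𝒟 β hD hd, hdx _ (projM_mem ℳ _ x)]

/-- `M`-side nondegeneracy -/
theorem eq_zero_M {x : M} (h : ∀ d, β d x = 0) : x = 0 := by
  apply eq_zero_of_projM_eq_zero ℳ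
  intro n
  by_contra hne
  obtain ⟨g, hg⟩ : ∃ g : Module.Dual k M, g (projM ℳ n x) ≠ 0 := by
    by_contra hcon
    push_neg at hcon
    exact hne ((Module.forall_dual_apply_eq_zero_iff k _).1 hcon)
  obtain ⟨d, hd, hdx⟩ := hD.exists_eq (-n) g
  have h1 := apply_eq_proj ℳ 𝒟 β hD hd x
  rw [neg_neg] at h1
  have h2 := hdx (projM ℳ n x) (by rw [neg_neg]; exact projM_mem ℳ n x)
  rw [← h1, h] at h2
  exact hg h2.symm

theorem ext_M {x y : M} (h : ∀ d, β d x = β d y) : x = y := by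
  rw [← sub_eq_zero]
  apply eq_zero_M ℳ 𝒟 β hD
  intro d
  rw [map_sub, h d, sub_self]

end Dual

end Groth.Agent.H9.GrDual
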