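import Mathlib
import Groth.Agent.Lib.Helper9.GrDual.Basic

/-!
# Graded `k`-duals: finite-dimensionality of pieces, reflexivity (helper9)
-/

set_option autoImplicit false
set_option linter.unusedSectionVars false

namespace Groth.Agent.H9.GrDual

open DirectSum Groth.Agent.H9.GrProj

universe u

section Pos

variable {k : Type u} [Field k] {R : Type u} [CommRing R] [Algebra k R]
  (𝒜 : ℤ → Submodule k R) [GradedAlgebra 𝒜]
  (hpos : ∀ n : ℤ, n < 0 → 𝒜 n = ⊥) (h0 : 𝒜 0 = Submodule.span k {(1 : R)})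
  {M : Type u} [AddCommGroup M] [Module R M] [Module k M] [IsScalarTower k R M]
  {τM : Type u} [SetLike τM M] [AddSubgroupClass τM M] (ℳ : ℤ → τM) [DirectSum.Decomposition ℳ] [SetLike.GradedSMul 𝒜 ℳ]

include hpos in
/-- The part of degrees `≥ n`, an `R`-submodule since `R` is nonnegatively graded. -/
def geN (n : ℤ) : Submodule R M where
  carrier := {x | ∀ j, j < n → projM ℳ j x = 0}
  add_mem' {x y} hx hy j hj := by rw [map_add, hx j hj, hy j hj, add_zero]
  zero_mem' j _ := map_zero _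
  smul_mem' r x hx j hj := by
    induction r using DirectSum.Decomposition.inductionOn 𝒜 with
    | zero => rw [zero_smul, map_zero]
    | add a b ha hb => rw [add_smul, map_add, ha, hb, add_zero]
    | homogeneous r =>
      rename_i p
      by_cases hp : p < 0
      · have : (r : R) = 0 := by
          have h' : (r : R) ∈ (⊥ : Submodule k R) := by rw [← hpos p hp]; exact r.2
          exact (Submodule.mem_bot k).1 h'
        rw [this, zero_smul, map_zero]
      · rw [projM_smul_of_mem 𝒜 ℳ r.2, hx (j - p) (by omega), smul_zero]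

theorem mem_geN {n : ℤ} {x : M} : x ∈ geN 𝒜 hpos ℳ n ↔ ∀ j, j < n → projM ℳ j x = 0 := Iff.rfl

theorem mem_geN_of_mem {n m : ℤ} (h : n ≤ m) {x : M} (hx : x ∈ ℳ m) : x ∈ geN 𝒜 hpos ℳ n :=
  fun j hj => projM_of_mem_ne ℳ hx (by omega)

theorem geN_mono {n m : ℤ} (h : n ≤ m) : geN 𝒜 hpos ℳ m ≤ geN 𝒜 hpos ℳ n :=
  fun _ hx j hj => hx j (by omega)

include hpos in
/-- on `M_{≥ n}` the degree `n` component of `r • y` only sees the degree-zero part of `r`. -/
theorem projM_smul_geN {n : ℤ} {y : M} (hy : y ∈ geN 𝒜 hpos ℳ n) (r : R) :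
    projM ℳ n (r • y) = ((DirectSum.decompose 𝒜 r) 0 : R) • projM ℳ n y := by
  induction r using DirectSum.Decomposition.inductionOn 𝒜 with
  | zero => simp
  | add a b ha hb =>
    rw [add_smul, map_add, ha, hb, DirectSum.decompose_add, DirectSum.add_apply,
      AddMemClass.coe_add, add_smul]
  | homogeneous r =>
    rename_i p
    rcases lt_trichotomy p 0 with hp | hp | hp
    · have : (r : R) = 0 := by
        have h' : (r : R) ∈ (⊥ : Submodule k R) := by rw [← hpos p hp]; exact r.2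
        exact (Submodule.mem_bot k).1 h'
      rw [this]; simp
    · subst hp
      rw [projM_smul_of_mem 𝒜 ℳ r.2, sub_zero, DirectSum.decompose_of_mem_same 𝒜 r.2]
    · rw [projM_smul_of_mem 𝒜 ℳ r.2, hy (n - p) (by omega), smul_zero,
        DirectSum.decompose_of_mem_ne 𝒜 r.2 (by omega), zero_smul]

include h0 in
theorem exists_scalar (r : R) : ∃ c : k, ((DirectSum.decompose 𝒜 r) 0 : R) = algebraMap k R c := by
  have h : ((DirectSum.decompose 𝒜 r) 0 : R) ∈ Submodule.span k {(1 : R)} := by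
    rw [← h0]; exact SetLike.coe_mem _
  obtain ⟨c, hc⟩ := Submodule.mem_span_singleton.1 h
  exact ⟨c, by rw [← hc, Algebra.algebraMap_eq_smul_one]⟩

include hpos h0 in
theorem projM_smul_geN' {n : ℤ} {y : M} (hy : y ∈ geN 𝒜 hpos ℳ n) (r : R) :
    ∃ c : k, projM ℳ n (r • y) = c • projM ℳ n y := by
  obtain ⟨c, hc⟩ := exists_scalar 𝒜 h0 r
  exact ⟨c, by rw [projM_smul_geN 𝒜 hpos ℳ hy, hc, algebraMap_smul]⟩

include hpos h0 in
/-- Pieces of a Noetherian graded module are finite-dimensional. -/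
theorem finite_piece [IsNoetherian R M] (n : ℤ) : Module.Finite k (pieceK 𝒜 ℳ n) := by
  classical
  obtain ⟨Y, hY⟩ := (IsNoetherian.noetherian (geN 𝒜 hpos ℳ n))
  have hle : pieceK 𝒜 ℳ n ≤ Submodule.span k ((Y.image (projM ℳ n) : Finset M) : Set M) := by
    intro x hx
    have hx' : x ∈ Submodule.span R (Y : Set M) := by
      rw [hY]
      exact mem_geN_of_mem 𝒜 hpos ℳ le_rfl hx
    obtain ⟨f, -, hf⟩ := Submodule.mem_span_finset.1 hx'
    have h1 : x = projM ℳ n x := (projM_of_mem_same ℳ hx).symm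
    rw [h1, ← hf, map_sum]
    refine Submodule.sum_mem _ fun y hy => ?_
    have hyg : y ∈ geN 𝒜 hpos ℳ n := by
      rw [← hY]; exact Submodule.subset_span hy
    obtain ⟨c, hc⟩ := projM_smul_geN' 𝒜 hpos h0 ℳ hyg (f y)
    rw [hc]
    exact Submodule.smul_mem _ _ (Submodule.subset_span (Finset.mem_image_of_mem _ hy))
  haveI : Module.Finite k (Submodule.span k ((Y.image (projM ℳ n) : Finset M) : Set M)) :=
    Module.Finite.span_finset k _
  exact Submodule.finiteDimensional_of_le hle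

include hpos h0 in
/-- Pieces of an Artinian graded module are finite-dimensional. -/
theorem finite_piece_of_artinian [IsArtinian R M] (n : ℤ) :
    Module.Finite k (pieceK 𝒜 ℳ n) := by
  let Φ : Submodule k (pieceK 𝒜 ℳ n) → Submodule R M := fun W =>
    { carrier := {x | x ∈ geN 𝒜 hpos ℳ n ∧ (⟨projM ℳ n x, projM_mem ℳ n x⟩ : pieceK 𝒜 ℳ n) ∈ W}
      add_mem' := fun {x y} hx hy => by
        refine ⟨Submodule.add_mem _ hx.1 hy.1, ?_⟩
        have : (⟨projM ℳ n (x + y), projM_mem ℳ n (x + y)⟩ : pieceK 𝒜 ℳ n)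
            = ⟨projM ℳ n x, projM_mem ℳ n x⟩ + ⟨projM ℳ n y, projM_mem ℳ n y⟩ := by
          ext; simp
        rw [this]
        exact W.add_mem hx.2 hy.2
      zero_mem' := by
        refine ⟨Submodule.zero_mem _, ?_⟩
        have : (⟨projM ℳ n 0, projM_mem ℳ n 0⟩ : pieceK 𝒜 ℳ n) = 0 := by ext; simp
        rw [this]; exact W.zero_mem
      smul_mem' := fun r x hx => by
        refine ⟨Submodule.smul_mem _ r hx.1, ?_⟩
        obtain ⟨c, hc⟩ := projM_smul_geN' 𝒜 hpos h0 ℳ hx.1 r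
        have : (⟨projM ℳ n (r • x), projM_mem ℳ n (r • x)⟩ : pieceK 𝒜 ℳ n)
            = c • ⟨projM ℳ n x, projM_mem ℳ n x⟩ := by
          ext; simp [hc]
        rw [this]
        exact W.smul_mem c hx.2 }
  have hΦ : StrictMono Φ := by
    apply strictMono_of_le_iff_le
    intro W W'
    constructor
    · intro h x hx
      exact ⟨hx.1, h hx.2⟩
    · intro h w hw
      have hw' : (w : M) ∈ Φ W := by
        refine ⟨mem_geN_of_mem 𝒜 hpos ℳ le_rfl w.2, ?_⟩
        have : (⟨projM ℳ n (w : M), projM_mem ℳ n (w : M)⟩ : pieceK 𝒜 ℳ n) = w := by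
          ext; exact projM_of_mem_same ℳ w.2
        rw [this]; exact hw
      have h2 := (h hw').2
      have : (⟨projM ℳ n (w : M), projM_mem ℳ n (w : M)⟩ : pieceK 𝒜 ℳ n) = w := by
        ext; exact projM_of_mem_same ℳ w.2
      rwa [this] at h2
  haveI : WellFoundedLT (Submodule k (pieceK 𝒜 ℳ n)) := hΦ.wellFoundedLT
  haveI : IsArtinian k (pieceK 𝒜 ℳ n) := ⟨‹WellFoundedLT _›.wf⟩
  haveI : IsNoetherian k (pieceK 𝒜 ℳ n) := IsSemiprimaryRing.isNoetherian_iff_isArtinian.mpr inferInstance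
  infer_instance

end Pos

section Flip

variable {k : Type u} [Field k] {R : Type u} [CommRing R] [Algebra k R]
  (𝒜 : ℤ → Submodule k R) [GradedAlgebra 𝒜]
  {M : Type u} [AddCommGroup M] [Module R M] [Module k M] [IsScalarTower k R M]
  {τM : Type u} [SetLike τM M] [AddSubgroupClass τM M] (ℳ : ℤ → τM) [DirectSum.Decomposition ℳ] [SetLike.GradedSMul 𝒜 ℳ]
  {D : Type u} [AddCommGroup D] [Module R D] [Module k D] [IsScalarTower k R D]
  (𝒟 : ℤ → AddSubgroup D) [DirectSum.Decomposition 𝒟] [SetLike.GradedSMul 𝒜 𝒟]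
  (β : D →ₗ[k] M →ₗ[k] k) (hD : GrSeg.IsGDual R ℳ 𝒟 β)

/-- restriction of the pairing to `D_{-n} × M_n` -/
noncomputable def toDualPiece (n : ℤ) :
    pieceK 𝒜 𝒟 (-n) →ₗ[k] Module.Dual k (pieceK 𝒜 ℳ n) :=
  β.domRestrict₁₂ (pieceK 𝒜 𝒟 (-n)) (pieceK 𝒜 ℳ n)

@[simp] theorem toDualPiece_apply (n : ℤ) (d : pieceK 𝒜 𝒟 (-n)) (x : pieceK 𝒜 ℳ n) :
    toDualPiece 𝒜 ℳ 𝒟 β n d x = β (d : D) (x : M) := rfl

include hD

theorem toDualPiece_bijective (n : ℤ) : Function.Bijective (toDualPiece 𝒜 ℳ 𝒟 β n) := by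
  constructor
  · rw [← LinearMap.ker_eq_bot, LinearMap.ker_eq_bot']
    intro d hd
    have : (d : D) = 0 := by
      apply hD.eq_zero (-n) d d.2
      intro x hx
      rw [neg_neg] at hx
      exact LinearMap.congr_fun hd ⟨x, hx⟩
    exact Subtype.ext this
  · intro l
    obtain ⟨g, hg⟩ := LinearMap.exists_extend l
    obtain ⟨d, hd, hdx⟩ := hD.exists_eq (-n) g
    refine ⟨⟨d, hd⟩, ?_⟩
    ext x
    rw [toDualPiece_apply]
    have := hdx (x : M) (by rw [neg_neg]; exact x.2)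
    rw [this, ← hg]
    rfl

/-- `D_{-n} ≃ Dual (M_n)` -/
noncomputable def dualPieceEquiv (n : ℤ) :
    pieceK 𝒜 𝒟 (-n) ≃ₗ[k] Module.Dual k (pieceK 𝒜 ℳ n) :=
  LinearEquiv.ofBijective (toDualPiece 𝒜 ℳ 𝒟 β n) (toDualPiece_bijective 𝒜 ℳ 𝒟 β hD n)

theorem finite_dual_piece (n : ℤ) [Module.Finite k (pieceK 𝒜 ℳ n)] :
    Module.Finite k (pieceK 𝒜 𝒟 (-n)) :=
  Module.Finite.equiv (dualPieceEquiv 𝒜 ℳ 𝒟 β hD n).symm

/-- Reflexivity: if the pieces of `M` are finite-dimensional, `M` is the graded dual of `D`. -/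
theorem isGDual_flip (hfin : ∀ n, Module.Finite k (pieceK 𝒜 ℳ n)) :
    GrSeg.IsGDual R 𝒟 ℳ β.flip where
  map_smul r x d := by
    rw [LinearMap.flip_apply, LinearMap.flip_apply, hD.map_smul]
  vanish n x hx m hm d hd := by
    rw [LinearMap.flip_apply]
    exact hD.vanish m d hd n (by omega) x hx
  eq_zero n x hx h := by
    apply eq_zero_M ℳ 𝒟 β hD
    intro d
    rw [apply_proj_of_mem ℳ 𝒟 β hD hx d]
    have := h _ (projM_mem 𝒟 (-n) d)
    rwa [LinearMap.flip_apply] at this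
  exists_eq n G := by
    haveI := hfin n
    set e := dualPieceEquiv 𝒜 ℳ 𝒟 β hD n
    let G' : Module.Dual k (Module.Dual k (pieceK 𝒜 ℳ n)) :=
      (G ∘ₗ (pieceK 𝒜 𝒟 (-n)).subtype) ∘ₗ e.symm.toLinearMap
    set x := (Module.evalEquiv k (pieceK 𝒜 ℳ n)).symm G' with hx
    refine ⟨(x : M), x.2, fun d hd => ?_⟩
    rw [LinearMap.flip_apply]
    have h1 : (Module.evalEquiv k (pieceK 𝒜 ℳ n)) x = G' := by
      rw [hx, LinearEquiv.apply_symm_apply]
    have h2 := LinearMap.congr_fun h1 (e ⟨d, hd⟩)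
    rw [Module.evalEquiv_apply, Module.Dual.eval_apply] at h2
    have h3 : G' (e ⟨d, hd⟩) = G d := by
      simp only [G', LinearMap.comp_apply, LinearEquiv.coe_coe, LinearEquiv.symm_apply_apply,
        Submodule.subtype_apply]
    rw [h3] at h2
    rw [← h2]
    rfl

end Flip

end Groth.Agent.H9.GrDual
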