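import Mathlib
import Groth.Agent.Lib.Helper9.GrDual.Fin

/-!
# Graded `k`-duals: duality on morphisms (helper9)
-/

set_option autoImplicit false
set_option linter.unusedSectionVars false

namespace Groth.Agent.H9.GrDual

open DirectSum Groth.Agent.H9.GrProj

universe u

section ProjMap

variable {R : Type*} [CommRing R] {M N : Type*} [AddCommGroup M] [Module R M]
  [AddCommGroup N] [Module R N]
  {τM : Type u} [SetLike τM M] [AddSubgroupClass τM M] (ℳ : ℤ → τM) [DirectSum.Decomposition ℳ]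
  (𝒩 : ℤ → AddSubgroup N) [DirectSum.Decomposition 𝒩]

theorem projM_map (f : M →ₗ[R] N) (hf : ∀ (g : ℤ) (m : M), m ∈ ℳ g → f m ∈ 𝒩 g) (n : ℤ) (x : M) :
    projM 𝒩 n (f x) = f (projM ℳ n x) := by
  induction x using DirectSum.Decomposition.inductionOn ℳ with
  | zero => simp
  | add a b ha hb => rw [map_add, map_add, ha, hb, map_add, map_add]
  | homogeneous x =>
    rename_i p
    rw [projM_of_mem 𝒩 (hf p x x.2), projM_of_mem ℳ x.2]
    split_ifs
    · rfl
    · rw [map_zero]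

end ProjMap

section Hom

variable {k : Type u} [Field k] {R : Type u} [CommRing R] [Algebra k R]
  (𝒜 : ℤ → Submodule k R) [GradedAlgebra 𝒜]
  {F : Type u} [AddCommGroup F] [Module R F] [Module k F] [IsScalarTower k R F]
  {τF : Type u} [SetLike τF F] [AddSubgroupClass τF F] (ℱ : ℤ → τF) [DirectSum.Decomposition ℱ] [SetLike.GradedSMul 𝒜 ℱ]
  {M : Type u} [AddCommGroup M] [Module R M] [Module k M] [IsScalarTower k R M]
  {τM : Type u} [SetLike τM M] [AddSubgroupClass τM M] (ℳ : ℤ → τM) [DirectSum.Decomposition ℳ] [SetLike.GradedSMul 𝒜 ℳ]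
  {DM : Type u} [AddCommGroup DM] [Module R DM] [Module k DM] [IsScalarTower k R DM]
  (𝒟M : ℤ → AddSubgroup DM) [DirectSum.Decomposition 𝒟M] [SetLike.GradedSMul 𝒜 𝒟M]
  (βM : DM →ₗ[k] M →ₗ[k] k) (hDM : GrSeg.IsGDual R ℳ 𝒟M βM)
  {DF : Type u} [AddCommGroup DF] [Module R DF] [Module k DF] [IsScalarTower k R DF]
  (𝒟F : ℤ → AddSubgroup DF) [DirectSum.Decomposition 𝒟F] [SetLike.GradedSMul 𝒜 𝒟F]
  (βF : DF →ₗ[k] F →ₗ[k] k) (hDF : GrSeg.IsGDual R ℱ 𝒟F βF)

include hDM hDF in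
theorem existsUnique_dualMap (hfinM : ∀ n, Module.Finite k (pieceK 𝒜 ℳ n))
    (g : DM →ₗ[R] DF) (hg : GrLC.IsGrHom 𝒟M 𝒟F g) :
    ∃! f : F →ₗ[R] M, GrLC.IsGrHom ℱ ℳ f ∧ GrSeg.IsGDualMap βM βF f g := by
  have hflip := isGDual_flip 𝒜 ℳ 𝒟M βM hDM hfinM
  have hex_hom : ∀ n, ∀ x ∈ ℱ n, ∃ y ∈ ℳ n, ∀ d, βM d y = βF (g d) x := by
    intro n x hx
    let G : DM →ₗ[k] k := (βF.flip x) ∘ₗ (g.restrictScalars k)
    obtain ⟨y, hy, hyd⟩ := hflip.exists_eq n G
    refine ⟨y, hy, fun d => ?_⟩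
    rw [apply_proj_of_mem ℳ 𝒟M βM hDM hy d, apply_proj_of_mem ℱ 𝒟F βF hDF hx (g d),
      projM_map 𝒟M 𝒟F g hg]
    have := hyd (projM 𝒟M (-n) d) (projM_mem 𝒟M _ d)
    rw [LinearMap.flip_apply] at this
    rw [this]
    rfl
  have hex : ∀ x : F, ∃ y : M, ∀ d, βM d y = βF (g d) x := by
    intro x
    induction x using DirectSum.Decomposition.inductionOn ℱ with
    | zero => exact ⟨0, fun d => by simp⟩
    | add a b ha hb =>
      obtain ⟨y, hy⟩ := ha
      obtain ⟨y', hy'⟩ := hb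
      exact ⟨y + y', fun d => by rw [map_add, hy, hy', map_add]⟩
    | homogeneous x =>
      rename_i n
      obtain ⟨y, -, hy⟩ := hex_hom n x x.2
      exact ⟨y, hy⟩
  choose f₀ hf₀ using hex
  have huniq : ∀ x y, (∀ d, βM d y = βF (g d) x) → y = f₀ x := fun x y h =>
    ext_M ℳ 𝒟M βM hDM (fun d => by rw [h, hf₀])
  let f : F →ₗ[R] M :=
    { toFun := f₀
      map_add' := fun x y => by
        symm; apply huniq; intro d
        rw [map_add, hf₀, hf₀, map_add]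
      map_smul' := fun r x => by
        symm; apply huniq; intro d
        rw [RingHom.id_apply, ← hDM.map_smul, hf₀, map_smul, hDF.map_smul] }
  refine ⟨f, ⟨?_, ?_⟩, ?_⟩
  · intro n x hx
    obtain ⟨y, hy, hyd⟩ := hex_hom n x hx
    have : y = f₀ x := huniq x y hyd
    change f₀ x ∈ ℳ n
    rw [← this]; exact hy
  · intro d x
    exact (hf₀ x d).symm
  · rintro f' ⟨-, hf'⟩
    ext x
    exact huniq x (f' x) (fun d => (hf' d x).symm)

end Hom

end Groth.Agent.H9.GrDual
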