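import Mathlib
import Groth.Agent.Lib.Helper9.GrDual.Hom

/-!
# Minimal surjections dualize to *essential injections (helper9)
-/

set_option autoImplicit false
set_option linter.unusedSectionVars false

namespace Groth.Agent.H9.GrDual

open DirectSum Groth.Agent.H9.GrProj

universe u

section Bdd

variable {k : Type u} [Field k] {R : Type u} [CommRing R] [Algebra k R]
  (𝒜 : ℤ → Submodule k R) [GradedAlgebra 𝒜]
  (hpos : ∀ n : ℤ, n < 0 → 𝒜 n = ⊥)
  {M : Type u} [AddCommGroup M] [Module R M]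
  {τM : Type u} [SetLike τM M] [AddSubgroupClass τM M] (ℳ : ℤ → τM) [DirectSum.Decomposition ℳ]
  [SetLike.GradedSMul 𝒜 ℳ]

include hpos in
/-- A finitely generated graded module over a nonnegatively graded ring is bounded below. -/
theorem exists_bound_below [Module.Finite R M] : ∃ n₀ : ℤ, ∀ m < n₀, ∀ x ∈ ℳ m, x = 0 := by
  classical
  obtain ⟨G, α, _, hgen⟩ := exists_homogeneous_gens 𝒜 ℳ
  obtain ⟨N, hN⟩ := (G.image (fun g => - α g)).exists_le
  refine ⟨-N, fun m hm x hx => ?_⟩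
  obtain ⟨r, hr, rfl⟩ := hgen m x hx
  refine Finset.sum_eq_zero fun g hg => ?_
  have h1 := hN _ (Finset.mem_image_of_mem _ hg)
  have h2 : r g ∈ 𝒜 (m - α g) := hr g hg
  rw [hpos _ (by omega), Submodule.mem_bot] at h2
  rw [h2, zero_smul]

end Bdd

section Ess

variable {k : Type u} [Field k] {R : Type u} [CommRing R] [Algebra k R]
  (𝒜 : ℤ → Submodule k R) [GradedAlgebra 𝒜]
  (hpos : ∀ n : ℤ, n < 0 → 𝒜 n = ⊥) (h0 : 𝒜 0 = Submodule.span k {(1 : R)})
  {F : Type u} [AddCommGroup F] [Module R F] [Module k F] [IsScalarTower k R F]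
  (ℱ : ℤ → AddSubgroup F) [DirectSum.Decomposition ℱ] [SetLike.GradedSMul 𝒜 ℱ]
  {M : Type u} [AddCommGroup M] [Module R M] [Module k M] [IsScalarTower k R M]
  (ℳ : ℤ → AddSubgroup M) [DirectSum.Decomposition ℳ] [SetLike.GradedSMul 𝒜 ℳ]
  {DM : Type u} [AddCommGroup DM] [Module R DM] [Module k DM] [IsScalarTower k R DM]
  (𝒟M : ℤ → AddSubgroup DM) [DirectSum.Decomposition 𝒟M] [SetLike.GradedSMul 𝒜 𝒟M]
  (βM : DM →ₗ[k] M →ₗ[k] k) (hDM : GrSeg.IsGDual R ℳ 𝒟M βM)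
  {DF : Type u} [AddCommGroup DF] [Module R DF] [Module k DF] [IsScalarTower k R DF]
  (𝒟F : ℤ → AddSubgroup DF) [DirectSum.Decomposition 𝒟F] [SetLike.GradedSMul 𝒜 𝒟F]
  (βF : DF →ₗ[k] F →ₗ[k] k) (hDF : GrSeg.IsGDual R ℱ 𝒟F βF)
  (f : F →ₗ[R] M) (hf : Function.Surjective f) (hfgr : GrLC.IsGrHom ℱ ℳ f)
  (g : DM →ₗ[R] DF) (hg : GrSeg.IsGDualMap βM βF f g)

include hDM hf hg in
theorem dualMap_injective : Function.Injective g := by
  rw [← LinearMap.ker_eq_bot, LinearMap.ker_eq_bot']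
  intro d hd
  apply eq_zero_of_forall ℳ 𝒟M βM hDM
  intro y
  obtain ⟨x, rfl⟩ := hf y
  rw [← hg, hd, map_zero, LinearMap.zero_apply]

include hDM hDF hfgr hg in
theorem dualMap_grHom : GrLC.IsGrHom 𝒟M 𝒟F g := by
  intro n d hd
  rw [mem_piece_iff ℱ 𝒟F βF hDF]
  intro m hm x hx
  rw [hg]
  exact hDM.vanish n d hd m hm _ (hfgr m x hx)

include 𝒜 hDM hDF hf hfgr hg in
/-- a homogeneous element of `F^*` vanishing on `ker f` is in the image of `f^*` -/
theorem mem_range_of_vanish {n : ℤ} {e : DF} (he : e ∈ 𝒟F n)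
    (hv : ∀ x ∈ LinearMap.ker f, βF e x = 0) : e ∈ LinearMap.range g := by
  obtain ⟨s, hs⟩ := (f.restrictScalars k).exists_rightInverse_of_surjective
    (LinearMap.range_eq_top.2 hf)
  have hs' : ∀ y, f (s y) = y := fun y => LinearMap.congr_fun hs y
  obtain ⟨d, hd, hdy⟩ := hDM.exists_eq n ((βF e) ∘ₗ s)
  refine ⟨d, ?_⟩
  have hgd := dualMap_grHom ℱ ℳ 𝒟M βM hDM 𝒟F βF hDF f hfgr g hg n d hd
  apply ext_D ℱ 𝒟F βF hDF
  intro x
  rw [apply_eq_proj ℱ 𝒟F βF hDF hgd, apply_eq_proj ℱ 𝒟F βF hDF he, hg,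
    hdy _ (hfgr _ _ (projM_mem ℱ _ x)), LinearMap.comp_apply]
  rw [← sub_eq_zero, ← map_sub]
  apply hv
  rw [LinearMap.mem_ker, map_sub, hs', sub_self]

/-- the irrelevant ideal kills `e` iff `e` vanishes on `m F` -/
theorem smul_eq_zero_of_vanish (hDF' : GrSeg.IsGDual R ℱ 𝒟F βF) (I : Ideal R) {e : DF}
    (hv : ∀ x ∈ I • (⊤ : Submodule R F), βF e x = 0) {r : R} (hr : r ∈ I) : r • e = 0 := by
  apply eq_zero_of_forall ℱ 𝒟F βF hDF'
  intro x
  rw [hDF'.map_smul]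
  exact hv _ (Submodule.smul_mem_smul hr Submodule.mem_top)

theorem vanish_of_smul_eq_zero (hDF' : GrSeg.IsGDual R ℱ 𝒟F βF) (I : Ideal R) {e : DF}
    (h : ∀ r ∈ I, r • e = 0) : ∀ x ∈ I • (⊤ : Submodule R F), βF e x = 0 := by
  intro x hx
  refine Submodule.smul_induction_on hx (fun r hr y _ => ?_) (fun x y hx hy => ?_)
  · rw [← hDF'.map_smul, h r hr, map_zero, LinearMap.zero_apply]
  · rw [map_add, hx, hy, add_zero]

/-- `I F` is a graded submodule when `I` is a homogeneous ideal -/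
theorem projM_mem_smul_top (mR : HomogeneousIdeal 𝒜) {y : F}
    (hy : y ∈ mR.toIdeal • (⊤ : Submodule R F)) (j : ℤ) :
    projM ℱ j y ∈ mR.toIdeal • (⊤ : Submodule R F) := by
  classical
  refine Submodule.smul_induction_on hy (fun r hr y _ => ?_) (fun x y hx hy => ?_)
  · rw [← DirectSum.sum_support_decompose 𝒜 r, Finset.sum_smul, map_sum]
    refine Submodule.sum_mem _ fun p _ => ?_
    rw [projM_smul_of_mem 𝒜 ℱ (SetLike.coe_mem _)]
    exact Submodule.smul_mem_smul (mR.isHomogeneous p hr) Submodule.mem_top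
  · rw [map_add]; exact Submodule.add_mem _ hx hy

include hpos hDM hDF hf hfgr hg in
theorem ess_of_minimal [Module.Finite R F] (mR : HomogeneousIdeal 𝒜)
    (hmR : mR.toIdeal = Ideal.span (⋃ n ∈ Set.Ioi (0 : ℤ), (𝒜 n : Set R)))
    (hmin : LinearMap.ker f ≤ mR.toIdeal • (⊤ : Submodule R F)) :
    GrLC.IsStarEss 𝒟M 𝒟F g := by
  refine ⟨dualMap_injective ℳ 𝒟M βM hDM βF f hf g hg,
    dualMap_grHom ℱ ℳ 𝒟M βM hDM 𝒟F βF hDF f hfgr g hg, ?_⟩
  intro N hN hne
  obtain ⟨e, heN, he0⟩ := Submodule.exists_mem_ne_zero_of_ne_bot hne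
  obtain ⟨n, hn⟩ : ∃ n, projM 𝒟F n e ≠ 0 := by
    by_contra hcon
    push_neg at hcon
    exact he0 (eq_zero_of_projM_eq_zero 𝒟F hcon)
  obtain ⟨n₀, hn₀⟩ := exists_bound_below 𝒜 hpos ℱ
  have hbdd : ∀ j, (∃ e' ∈ N, e' ∈ 𝒟F j ∧ e' ≠ 0) → j ≤ -n₀ := by
    rintro j ⟨e', -, he'j, he'0⟩
    by_contra hj
    push_neg at hj
    apply he'0
    apply hDF.eq_zero j e' he'j
    intro x hx
    rw [hn₀ (-j) (by omega) x hx, map_zero]
  obtain ⟨j₀, ⟨e', he'N, he'j, he'0⟩, hmax⟩ :=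
    Int.exists_greatest_of_bdd ⟨-n₀, hbdd⟩ ⟨n, projM 𝒟F n e, hN n heN, projM_mem 𝒟F n e, hn⟩
  have hkill : ∀ r ∈ mR.toIdeal, r • e' = 0 := by
    intro r hr
    rw [hmR] at hr
    induction hr using Submodule.span_induction with
    | mem r hr =>
      simp only [Set.mem_iUnion] at hr
      obtain ⟨p, hp, hrp⟩ := hr
      by_contra hne'
      have := hmax (p + j₀) ⟨r • e', N.smul_mem r he'N, smul_mem 𝒜 𝒟F hrp he'j, hne'⟩
      have hp' : 0 < p := hp
      omega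
    | zero => rw [zero_smul]
    | add x y _ _ hx hy => rw [add_smul, hx, hy, add_zero]
    | smul s x _ hx => rw [smul_eq_mul, mul_smul, hx, smul_zero]
  have hv := vanish_of_smul_eq_zero ℱ 𝒟F βF hDF mR.toIdeal hkill
  have hrange : e' ∈ LinearMap.range g :=
    mem_range_of_vanish 𝒜 ℱ ℳ 𝒟M βM hDM 𝒟F βF hDF f hf hfgr g hg he'j
      (fun x hx => hv x (hmin hx))
  intro hbot
  have : e' ∈ N ⊓ LinearMap.range g := ⟨he'N, hrange⟩
  rw [hbot, Submodule.mem_bot] at this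
  exact he'0 this

include hpos h0 hDF hfgr hg in
theorem minimal_of_ess (mR : HomogeneousIdeal 𝒜)
    (hmR : mR.toIdeal = Ideal.span (⋃ n ∈ Set.Ioi (0 : ℤ), (𝒜 n : Set R)))
    (hess : GrLC.IsStarEss 𝒟M 𝒟F g) :
    LinearMap.ker f ≤ mR.toIdeal • (⊤ : Submodule R F) := by
  classical
  intro x hx
  by_contra hxm
  obtain ⟨n, hn⟩ : ∃ n, projM ℱ n x ∉ mR.toIdeal • (⊤ : Submodule R F) := by
    by_contra hcon
    push_neg at hcon
    apply hxm
    rw [← sum_projM ℱ x]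
    exact Submodule.sum_mem _ fun n _ => hcon n
  have hxn_ker : projM ℱ n x ∈ LinearMap.ker f := by
    rw [LinearMap.mem_ker, ← projM_map ℱ ℳ f hfgr, LinearMap.mem_ker.1 hx, map_zero]
  set V : Submodule k F := (mR.toIdeal • (⊤ : Submodule R F)).restrictScalars k with hV
  have hn' : projM ℱ n x ∉ V := hn
  obtain ⟨l, hl, hlV⟩ := Submodule.exists_dual_map_eq_bot_of_notMem hn' inferInstance
  obtain ⟨e, he, hex⟩ := hDF.exists_eq (-n) l
  have hv : ∀ y ∈ mR.toIdeal • (⊤ : Submodule R F), βF e y = 0 := by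
    intro y hy
    rw [apply_eq_proj ℱ 𝒟F βF hDF he, neg_neg, hex _ (by rw [neg_neg]; exact projM_mem ℱ n y)]
    have : l (projM ℱ n y) ∈ V.map l := ⟨_, projM_mem_smul_top 𝒜 ℱ mR hy n, rfl⟩
    rw [hlV] at this
    exact (Submodule.mem_bot k).1 this
  have hkill : ∀ r ∈ mR.toIdeal, r • e = 0 := fun r hr =>
    smul_eq_zero_of_vanish ℱ 𝒟F βF hDF mR.toIdeal hv hr
  have hexn : βF e (projM ℱ n x) = l (projM ℱ n x) :=
    hex _ (by rw [neg_neg]; exact projM_mem ℱ n x)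
  have he0 : e ≠ 0 := by
    rintro rfl
    apply hl
    rw [← hexn, map_zero, LinearMap.zero_apply]
  have hre : ∀ r : R, ∃ c : k, r • e = c • e := by
    intro r
    induction r using DirectSum.Decomposition.inductionOn 𝒜 with
    | zero => exact ⟨0, by simp⟩
    | add a b ha hb =>
      obtain ⟨c, hc⟩ := ha
      obtain ⟨c', hc'⟩ := hb
      exact ⟨c + c', by rw [add_smul, hc, hc', add_smul]⟩
    | homogeneous r =>
      rename_i p
      rcases lt_trichotomy p 0 with hp | hp | hp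
      · have : (r : R) = 0 := by
          have h' : (r : R) ∈ (⊥ : Submodule k R) := by rw [← hpos p hp]; exact r.2
          exact (Submodule.mem_bot k).1 h'
        exact ⟨0, by rw [this, zero_smul, zero_smul]⟩
      · subst hp
        have h' : (r : R) ∈ Submodule.span k {(1 : R)} := by rw [← h0]; exact r.2
        obtain ⟨c, hc⟩ := Submodule.mem_span_singleton.1 h'
        exact ⟨c, by rw [← hc, smul_assoc, one_smul]⟩
      · refine ⟨0, ?_⟩
        rw [zero_smul]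
        apply hkill
        rw [hmR]
        apply Ideal.subset_span
        simp only [Set.mem_iUnion]
        exact ⟨p, hp, r.2⟩
  set N : Submodule R DF := Submodule.span R {e} with hNdef
  have heN : e ∈ N := Submodule.mem_span_singleton_self e
  have hNhom : N.IsHomogeneous 𝒟F := by
    intro i z hz
    obtain ⟨r, rfl⟩ := Submodule.mem_span_singleton.1 hz
    obtain ⟨c, hc⟩ := hre r
    have hce : c • e ∈ 𝒟F (-n) := ksmul_mem 𝒜 𝒟F c he
    change projM 𝒟F i (r • e) ∈ N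
    rw [hc, projM_of_mem 𝒟F hce]
    split_ifs
    · rw [← hc]; exact hz
    · exact N.zero_mem
  have hNne : N ≠ ⊥ := by
    intro h
    apply he0
    rw [h] at heN
    exact (Submodule.mem_bot R).1 heN
  obtain ⟨z, hz, hz0⟩ := Submodule.exists_mem_ne_zero_of_ne_bot (hess.essential N hNhom hNne)
  obtain ⟨hzN, d, hd⟩ := hz
  obtain ⟨r, rfl⟩ := Submodule.mem_span_singleton.1 hzN
  obtain ⟨c, hc⟩ := hre r
  have hc0 : c ≠ 0 := by
    rintro rfl
    apply hz0
    rw [hc, zero_smul]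
  have h1 : βF (r • e) (projM ℱ n x) = 0 := by
    rw [← hd, hg, LinearMap.mem_ker.1 hxn_ker, map_zero]
  rw [hc, map_smul, LinearMap.smul_apply, hexn, smul_eq_mul] at h1
  exact hl ((mul_eq_zero.1 h1).resolve_left hc0)

end Ess

end Groth.Agent.H9.GrDual
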