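import Mathlib
import Groth.Agent.Lib.Helper9.GrDual.Fin

/-!
# Initial forms: gr-Artinian + bounded above ⟹ Artinian (helper9)
-/

set_option autoImplicit false
set_option linter.unusedSectionVars false

namespace Groth.Agent.H9.GrDual

open DirectSum Groth.Agent.H9.GrProj

universe u

section Init

variable {k : Type u} [Field k] {R : Type u} [CommRing R] [Algebra k R]
  (𝒜 : ℤ → Submodule k R) [GradedAlgebra 𝒜]
  (hpos : ∀ n : ℤ, n < 0 → 𝒜 n = ⊥)
  {D : Type u} [AddCommGroup D] [Module R D] [Module k D] [IsScalarTower k R D]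
  (𝒟 : ℤ → AddSubgroup D) [DirectSum.Decomposition 𝒟] [SetLike.GradedSMul 𝒜 𝒟]

/-- initial forms of degree `s` of elements of `N` -/
def inS (N : Submodule R D) (s : ℤ) : AddSubgroup D where
  carrier := {e | ∃ d ∈ N, d ∈ geN 𝒜 hpos 𝒟 s ∧ projM 𝒟 s d = e}
  zero_mem' := ⟨0, N.zero_mem, Submodule.zero_mem _, map_zero _⟩
  add_mem' := by
    rintro _ _ ⟨d, hd, hdg, rfl⟩ ⟨d', hd', hdg', rfl⟩
    exact ⟨d + d', N.add_mem hd hd', Submodule.add_mem _ hdg hdg', map_add _ _ _⟩
  neg_mem' := by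
    rintro _ ⟨d, hd, hdg, rfl⟩
    exact ⟨-d, N.neg_mem hd, Submodule.neg_mem _ hdg, map_neg _ _⟩

theorem mem_inS {N : Submodule R D} {s : ℤ} {e : D} :
    e ∈ inS 𝒜 hpos 𝒟 N s ↔ ∃ d ∈ N, d ∈ geN 𝒜 hpos 𝒟 s ∧ projM 𝒟 s d = e := Iff.rfl

/-- the submodule of initial forms -/
def grN (N : Submodule R D) : Submodule R D where
  carrier := {d | ∀ s, projM 𝒟 s d ∈ inS 𝒜 hpos 𝒟 N s}
  add_mem' {x y} hx hy s := by rw [map_add]; exact add_mem (hx s) (hy s)
  zero_mem' s := by rw [map_zero]; exact zero_mem _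
  smul_mem' r d hd s := by
    induction r using DirectSum.Decomposition.inductionOn 𝒜 with
    | zero => rw [zero_smul, map_zero]; exact zero_mem _
    | add a b ha hb => rw [add_smul, map_add]; exact add_mem ha hb
    | homogeneous r =>
      rename_i p
      by_cases hp : p < 0
      · have : (r : R) = 0 := by
          have h' : (r : R) ∈ (⊥ : Submodule k R) := by rw [← hpos p hp]; exact r.2
          exact (Submodule.mem_bot k).1 h'
        rw [this, zero_smul, map_zero]; exact zero_mem _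
      · rw [projM_smul_of_mem 𝒜 𝒟 r.2]
        obtain ⟨d₁, hd₁N, hd₁g, hd₁⟩ := hd (s - p)
        refine ⟨(r : R) • d₁, N.smul_mem _ hd₁N, ?_, ?_⟩
        · intro j hj
          rw [projM_smul_of_mem 𝒜 𝒟 r.2, hd₁g (j - p) (by omega), smul_zero]
        · rw [projM_smul_of_mem 𝒜 𝒟 r.2, hd₁]

theorem mem_grN {N : Submodule R D} {d : D} :
    d ∈ grN 𝒜 hpos 𝒟 N ↔ ∀ s, projM 𝒟 s d ∈ inS 𝒜 hpos 𝒟 N s := Iff.rfl

theorem grN_isHomogeneous (N : Submodule R D) : (grN 𝒜 hpos 𝒟 N).IsHomogeneous 𝒟 := by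
  intro i d hd s
  change projM 𝒟 s (projM 𝒟 i d) ∈ _
  by_cases h : i = s
  · subst h
    rw [projM_projM_same]
    exact hd i
  · rw [projM_projM_ne 𝒟 h]
    exact zero_mem _

theorem grN_mono {N N' : Submodule R D} (h : N ≤ N') :
    grN 𝒜 hpos 𝒟 N ≤ grN 𝒜 hpos 𝒟 N' := by
  intro d hd s
  obtain ⟨d₁, hd₁, hg, he⟩ := hd s
  exact ⟨d₁, h hd₁, hg, he⟩

/-- If `D` is bounded above, `N ≤ N'` and `gr N' ≤ gr N` then `N' ≤ N`. -/
theorem le_of_grN_le (hbdd : ∃ t : ℤ, ∀ s, t < s → ∀ d ∈ 𝒟 s, d = 0) {N N' : Submodule R D}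
    (h : N ≤ N') (hgr : grN 𝒜 hpos 𝒟 N' ≤ grN 𝒜 hpos 𝒟 N) : N' ≤ N := by
  classical
  obtain ⟨t, ht⟩ := hbdd
  have key : ∀ j : ℕ, ∀ d' ∈ N', d' ∈ geN 𝒜 hpos 𝒟 (t + 1 - j) → d' ∈ N := by
    intro j
    induction j with
    | zero =>
      intro d' _ hg
      have : d' = 0 := by
        apply eq_zero_of_projM_eq_zero 𝒟
        intro n
        by_cases hn : n < t + 1
        · exact hg n (by simpa using hn)
        · exact ht n (by omega) _ (projM_mem 𝒟 n d')
      rw [this]; exact N.zero_mem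
    | succ j ih =>
      intro d' hd' hg
      set s : ℤ := t + 1 - (j + 1 : ℕ) with hs
      have he : projM 𝒟 s d' ∈ grN 𝒜 hpos 𝒟 N' := by
        intro s'
        by_cases h' : s = s'
        · subst h'
          rw [projM_projM_same]
          exact ⟨d', hd', hg, rfl⟩
        · rw [projM_projM_ne 𝒟 h']
          exact zero_mem _
      have he' := hgr he s
      rw [projM_projM_same] at he'
      obtain ⟨d₁, hd₁N, hd₁g, hd₁⟩ := he'
      have hsub : d' - d₁ ∈ N := by
        apply ih _ (N'.sub_mem hd' (h hd₁N))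
        intro i hi
        rw [map_sub]
        by_cases his : i < s
        · rw [hg i his, hd₁g i his, sub_zero]
        · have : i = s := by
            have : (t + 1 - (j : ℤ)) = s + 1 := by rw [hs]; push_cast; ring
            omega
          rw [this, hd₁, sub_self]
      have : d' = (d' - d₁) + d₁ := by abel
      rw [this]
      exact N.add_mem hsub hd₁N
  intro d' hd'
  obtain ⟨Mx, hMx⟩ := ((DirectSum.decompose 𝒟 d').support.image (fun i => -i)).exists_le
  have hge : d' ∈ geN 𝒜 hpos 𝒟 (-Mx) := by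
    intro i hi
    by_contra hne
    have hmem : i ∈ (DirectSum.decompose 𝒟 d').support := by
      rw [DFinsupp.mem_support_iff]
      intro h0
      apply hne
      rw [projM_apply, h0]; rfl
    have := hMx _ (Finset.mem_image_of_mem _ hmem)
    omega
  refine key (t + 1 + Mx).toNat d' hd' (geN_mono 𝒜 hpos 𝒟 ?_ hge)
  have := Int.self_le_toNat (t + 1 + Mx)
  omega

theorem grN_strictMono (hbdd : ∃ t : ℤ, ∀ s, t < s → ∀ d ∈ 𝒟 s, d = 0) :
    StrictMono (grN 𝒜 hpos 𝒟) := by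
  intro N N' h
  refine lt_of_le_of_ne (grN_mono 𝒜 hpos 𝒟 h.le) ?_
  intro heq
  exact (not_le_of_gt h) (le_of_grN_le 𝒜 hpos 𝒟 hbdd h.le heq.ge)

end Init

end Groth.Agent.H9.GrDual
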