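import Mathlib
import Groth.Agent.Lib.Helper9.GrDual.Hom

/-!
# Orthogonal submodules for graded duals (helper9)
-/

set_option autoImplicit false
set_option linter.unusedSectionVars false

namespace Groth.Agent.H9.GrDual

open DirectSum Groth.Agent.H9.GrProj

universe u

section Perp

variable {k : Type u} [Field k] {R : Type u} [CommRing R] [Algebra k R]
  (𝒜 : ℤ → Submodule k R) [GradedAlgebra 𝒜]
  {M : Type u} [AddCommGroup M] [Module R M] [Module k M] [IsScalarTower k R M]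
  {τM : Type u} [SetLike τM M] [AddSubgroupClass τM M] (ℳ : ℤ → τM) [DirectSum.Decomposition ℳ]
  [SetLike.GradedSMul 𝒜 ℳ]
  {D : Type u} [AddCommGroup D] [Module R D] [Module k D] [IsScalarTower k R D]
  (𝒟 : ℤ → AddSubgroup D) [DirectSum.Decomposition 𝒟] [SetLike.GradedSMul 𝒜 𝒟]
  (β : D →ₗ[k] M →ₗ[k] k) (hD : GrSeg.IsGDual R ℳ 𝒟 β)

/-- The orthogonal `N^⊥ ⊆ M` of a submodule `N ⊆ D`. -/
def perp (N : Submodule R D) : Submodule R M where
  carrier := {x | ∀ d ∈ N, β d x = 0}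
  add_mem' {x y} hx hy d hd := by rw [map_add, hx d hd, hy d hd, add_zero]
  zero_mem' d _ := map_zero _
  smul_mem' r x hx d hd := by
    rw [← hD.map_smul]
    exact hx _ (N.smul_mem r hd)

theorem mem_perp {N : Submodule R D} {x : M} :
    x ∈ perp ℳ 𝒟 β hD N ↔ ∀ d ∈ N, β d x = 0 := Iff.rfl

theorem perp_anti {N N' : Submodule R D} (h : N ≤ N') :
    perp ℳ 𝒟 β hD N' ≤ perp ℳ 𝒟 β hD N :=
  fun _ hx d hd => hx d (h hd)

include 𝒜 in
/-- On graded submodules the orthogonal is strictly antitone (pieces of `M` finite-dimensional). -/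
theorem perp_lt_of_lt (hfin : ∀ n, Module.Finite k (pieceK 𝒜 ℳ n)) {N N' : Submodule R D}
    (hN : N.IsHomogeneous 𝒟) (hN' : N'.IsHomogeneous 𝒟) (h : N < N') :
    perp ℳ 𝒟 β hD N' < perp ℳ 𝒟 β hD N := by
  classical
  have hflip := isGDual_flip 𝒜 ℳ 𝒟 β hD hfin
  obtain ⟨d', hd'N', hd'N⟩ := SetLike.exists_of_lt h
  obtain ⟨n, hn⟩ : ∃ n, projM 𝒟 n d' ∉ N := by
    by_contra hcon
    push_neg at hcon
    apply hd'N
    rw [← sum_projM 𝒟 d']
    exact Submodule.sum_mem _ fun n _ => hcon n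
  obtain ⟨n', rfl⟩ : ∃ n', n = -n' := ⟨-n, (neg_neg n).symm⟩
  set d'' := projM 𝒟 (-n') d' with hd''
  have hd''N' : d'' ∈ N' := hN' (-n') hd'N'
  have hd''mem : d'' ∈ 𝒟 (-n') := projM_mem 𝒟 _ _
  let W : Submodule k (pieceK 𝒜 𝒟 (-n')) :=
    (N.restrictScalars k).comap (pieceK 𝒜 𝒟 (-n')).subtype
  have hφW : (⟨d'', hd''mem⟩ : pieceK 𝒜 𝒟 (-n')) ∉ W := fun hw => hn hw
  obtain ⟨G, hG, hGW⟩ := Submodule.exists_dual_map_eq_bot_of_notMem hφW inferInstance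
  obtain ⟨G', hG'⟩ := LinearMap.exists_extend G
  have hG'' : ∀ d (hd : d ∈ 𝒟 (-n')), G' d = G ⟨d, hd⟩ := fun d hd => by
    rw [← hG']; rfl
  obtain ⟨x, hx, hxd⟩ := hflip.exists_eq n' G'
  have hxd' : ∀ d (hd : d ∈ 𝒟 (-n')), β d x = G ⟨d, hd⟩ := fun d hd => by
    have := hxd d hd
    rw [LinearMap.flip_apply] at this
    rw [this, hG'' d hd]
  refine lt_of_le_of_ne (perp_anti ℳ 𝒟 β hD h.le) ?_
  intro heq
  have hxN : x ∈ perp ℳ 𝒟 β hD N := by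
    intro d hd
    rw [apply_proj_of_mem ℳ 𝒟 β hD hx d, hxd' _ (projM_mem 𝒟 _ d)]
    have hw : (⟨projM 𝒟 (-n') d, projM_mem 𝒟 _ d⟩ : pieceK 𝒜 𝒟 (-n')) ∈ W := hN (-n') hd
    have : G ⟨projM 𝒟 (-n') d, projM_mem 𝒟 _ d⟩ ∈ W.map G := ⟨_, hw, rfl⟩
    rw [hGW] at this
    exact (Submodule.mem_bot k).1 this
  rw [← heq] at hxN
  apply hG
  rw [← hxd' d'' hd''mem]
  exact hxN d'' hd''N'

end Perp

end Groth.Agent.H9.GrDual
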