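import Mathlib
import Groth.Agent.Lib.Helper9.GrDual.Perp
import Groth.Agent.Lib.Helper9.GrDual.Init
import Groth.Agent.Lib.Helper9.GrDual.Ess

/-!
# Graded Matlis duality over a field: Noetherian ↔ Artinian (helper9)
-/

set_option autoImplicit false
set_option linter.unusedSectionVars false

namespace Groth.Agent.H9.GrDual

open DirectSum Groth.Agent.H9.GrProj

universe u

section Matlis

variable {k : Type u} [Field k] {R : Type u} [CommRing R] [Algebra k R]
  (𝒜 : ℤ → Submodule k R) [GradedAlgebra 𝒜]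
  (hpos : ∀ n : ℤ, n < 0 → 𝒜 n = ⊥) (h0 : 𝒜 0 = Submodule.span k {(1 : R)})
  {M : Type u} [AddCommGroup M] [Module R M] [Module k M] [IsScalarTower k R M]
  {τM : Type u} [SetLike τM M] [AddSubgroupClass τM M] (ℳ : ℤ → τM) [DirectSum.Decomposition ℳ]
  [SetLike.GradedSMul 𝒜 ℳ]
  {D : Type u} [AddCommGroup D] [Module R D] [Module k D] [IsScalarTower k R D]
  (𝒟 : ℤ → AddSubgroup D) [DirectSum.Decomposition 𝒟] [SetLike.GradedSMul 𝒜 𝒟]
  (β : D →ₗ[k] M →ₗ[k] k) (hD : GrSeg.IsGDual R ℳ 𝒟 β)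

include hpos hD in
/-- the dual of a bounded-below module is bounded above -/
theorem dual_bdd_above [Module.Finite R M] : ∃ t : ℤ, ∀ s, t < s → ∀ d ∈ 𝒟 s, d = 0 := by
  obtain ⟨n₀, hn₀⟩ := exists_bound_below 𝒜 hpos ℳ
  refine ⟨-n₀, fun s hs d hd => ?_⟩
  apply hD.eq_zero s d hd
  intro x hx
  rw [hn₀ (-s) (by omega) x hx, map_zero]

include hpos h0 hD in
/-- The graded dual of a Noetherian graded module is Artinian. -/
theorem isArtinian_dual [IsNoetherian R M] : IsArtinian R D := by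
  haveI : Module.Finite R M := inferInstance
  have hfin := fun n => finite_piece 𝒜 hpos h0 ℳ n
  have hbdd := dual_bdd_above 𝒜 hpos ℳ 𝒟 β hD
  have hanti : StrictAnti (fun N : Submodule R D => perp ℳ 𝒟 β hD (grN 𝒜 hpos 𝒟 N)) := by
    intro N N' h
    exact perp_lt_of_lt 𝒜 ℳ 𝒟 β hD hfin (grN_isHomogeneous 𝒜 hpos 𝒟 N)
      (grN_isHomogeneous 𝒜 hpos 𝒟 N') (grN_strictMono 𝒜 hpos 𝒟 hbdd h)
  haveI : WellFoundedLT (Submodule R D) := hanti.wellFoundedLT
  exact ⟨‹WellFoundedLT (Submodule R D)›.wf⟩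

include 𝒜 in
/-- `W ⊔ span {e}` is homogeneous when `W` is and `e` is a homogeneous element -/
theorem isHomogeneous_sup_span {W : Submodule R D} (hW : W.IsHomogeneous 𝒟) {n : ℤ} {e : D}
    (he : e ∈ 𝒟 n) : (W ⊔ Submodule.span R {e}).IsHomogeneous 𝒟 := by
  intro i x hx
  obtain ⟨w, hw, z, hz, rfl⟩ := Submodule.mem_sup.1 hx
  obtain ⟨r, rfl⟩ := Submodule.mem_span_singleton.1 hz
  change projM 𝒟 i (w + r • e) ∈ _
  rw [map_add, projM_smul_of_mem' 𝒜 𝒟 he]
  exact Submodule.add_mem _ (Submodule.mem_sup_left (hW i hw))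
    (Submodule.mem_sup_right (Submodule.smul_mem _ _ (Submodule.mem_span_singleton_self e)))

include hpos h0 hD in
/-- The graded dual of an Artinian graded module is finitely generated. -/
theorem finite_dual [IsArtinian R M] : Module.Finite R D := by
  classical
  have hfin := fun n => finite_piece_of_artinian 𝒜 hpos h0 ℳ n
  have hanti : StrictAnti
      (fun N : {N : Submodule R D // N.IsHomogeneous 𝒟} => perp ℳ 𝒟 β hD N.1) := by
    intro N N' h
    exact perp_lt_of_lt 𝒜 ℳ 𝒟 β hD hfin N.2 N'.2 h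
  haveI : WellFoundedGT {N : Submodule R D // N.IsHomogeneous 𝒟} := hanti.wellFoundedGT
  let S : Set {N : Submodule R D // N.IsHomogeneous 𝒟} := {N | N.1.FG}
  have hbot : (⊥ : Submodule R D).IsHomogeneous 𝒟 := by
    intro i x hx
    rw [Submodule.mem_bot] at hx
    subst hx
    rw [DirectSum.decompose_zero]
    exact Submodule.zero_mem _
  have hS : S.Nonempty := ⟨⟨⊥, hbot⟩, Submodule.fg_bot⟩
  obtain ⟨W, hWS, hWmax⟩ := (wellFounded_gt (α := {N : Submodule R D // N.IsHomogeneous 𝒟})).has_min S hS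
  have htop : W.1 = ⊤ := by
    by_contra hne
    obtain ⟨d, hd⟩ : ∃ d : D, d ∉ W.1 := by
      by_contra hcon
      push_neg at hcon
      exact hne (eq_top_iff.2 fun x _ => hcon x)
    obtain ⟨n, hn⟩ : ∃ n, projM 𝒟 n d ∉ W.1 := by
      by_contra hcon
      push_neg at hcon
      apply hd
      rw [← sum_projM 𝒟 d]
      exact Submodule.sum_mem _ fun n _ => hcon n
    let W' : {N : Submodule R D // N.IsHomogeneous 𝒟} :=
      ⟨W.1 ⊔ Submodule.span R {projM 𝒟 n d},
        isHomogeneous_sup_span 𝒜 𝒟 W.2 (projM_mem 𝒟 n d)⟩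
    have hW'S : W' ∈ S := Submodule.FG.sup hWS (Submodule.fg_span_singleton _)
    have hlt : W < W' := by
      refine lt_of_le_of_ne (le_sup_left (a := W.1)) ?_
      intro heq
      apply hn
      have : projM 𝒟 n d ∈ W'.1 :=
        Submodule.mem_sup_right (Submodule.mem_span_singleton_self _)
      rw [← heq] at this
      exact this
    exact hWmax W' hW'S hlt
  exact ⟨htop ▸ hWS⟩

end Matlis

end Groth.Agent.H9.GrDual
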