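import Mathlib
import Groth.Agent.Lib.Helper9.GrDual.Matlis

/-!
# Artinian graded modules embed into sums of shifts of `R^*` (helper9)
-/

set_option autoImplicit false
set_option linter.unusedSectionVars false

namespace Groth.Agent.H9.GrDual

open DirectSum Groth.Agent.H9.GrProj

universe u

section Embed

variable {k : Type u} [Field k] {R : Type u} [CommRing R] [Algebra k R]
  (𝒜 : ℤ → Submodule k R) [GradedAlgebra 𝒜]
  (hpos : ∀ n : ℤ, n < 0 → 𝒜 n = ⊥) (h0 : 𝒜 0 = Submodule.span k {(1 : R)})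
  {D : Type u} [AddCommGroup D] [Module R D] [Module k D] [IsScalarTower k R D]
  (𝒟 : ℤ → AddSubgroup D) [DirectSum.Decomposition 𝒟] [SetLike.GradedSMul 𝒜 𝒟]
  (β : D →ₗ[k] R →ₗ[k] k) (hD : GrSeg.IsGDual R 𝒜 𝒟 β)
  {M : Type u} [AddCommGroup M] [Module R M] [Module k M] [IsScalarTower k R M]
  (ℳ : ℤ → AddSubgroup M) [DirectSum.Decomposition ℳ] [SetLike.GradedSMul 𝒜 ℳ]

include hD in
/-- A functional on `M` supported in degree `n₁` gives a homogeneous map `M → R^*` of
degree `-n₁`. -/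
theorem exists_homOfFunctional (l : M →ₗ[k] k) (n₁ : ℤ) (hl : ∀ x, l x = l (projM ℳ n₁ x)) :
    ∃ h : M →ₗ[R] D, (∀ x r, β (h x) r = l (r • x)) ∧
      ∀ g x, x ∈ ℳ g → h x ∈ 𝒟 (g - n₁) := by
  have hex_hom : ∀ g, ∀ x ∈ ℳ g, ∃ d ∈ 𝒟 (g - n₁), ∀ r, β d r = l (r • x) := by
    intro g x hx
    let G : R →ₗ[k] k := l ∘ₗ ((LinearMap.toSpanSingleton R M x).restrictScalars k)
    have hG : ∀ r, G r = l (r • x) := fun _ => rfl
    obtain ⟨d, hd, hdx⟩ := exists_of_functional 𝒜 𝒜 𝒟 β hD G (g - n₁)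
    refine ⟨d, hd, fun r => ?_⟩
    rw [hdx, hG, hl (r • x), projM_smul_of_mem' 𝒜 ℳ hx n₁ r, projM_apply, neg_sub]
  have hex : ∀ x : M, ∃ d : D, ∀ r, β d r = l (r • x) := by
    intro x
    induction x using DirectSum.Decomposition.inductionOn ℳ with
    | zero => exact ⟨0, fun r => by simp⟩
    | add x y hx hy =>
      obtain ⟨d, hd⟩ := hx
      obtain ⟨d', hd'⟩ := hy
      exact ⟨d + d', fun r => by rw [map_add, LinearMap.add_apply, hd, hd', smul_add, map_add]⟩
    | homogeneous x =>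
      rename_i g
      obtain ⟨d, -, hd⟩ := hex_hom g x x.2
      exact ⟨d, hd⟩
  choose h₀ hh₀ using hex
  have huniq : ∀ x d, (∀ r, β d r = l (r • x)) → d = h₀ x := fun x d h =>
    ext_D 𝒜 𝒟 β hD (fun r => by rw [h, hh₀])
  let h : M →ₗ[R] D :=
    { toFun := h₀
      map_add' := fun x y => by
        symm; apply huniq; intro r
        rw [map_add, LinearMap.add_apply, hh₀, hh₀, smul_add, map_add]
      map_smul' := fun s x => by
        symm; apply huniq; intro r
        rw [RingHom.id_apply, hD.map_smul, hh₀, smul_eq_mul, mul_smul, smul_comm] }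
  refine ⟨h, hh₀, fun g x hx => ?_⟩
  obtain ⟨d, hd, hdr⟩ := hex_hom g x hx
  have : d = h₀ x := huniq x d hdr
  change h₀ x ∈ 𝒟 (g - n₁)
  rw [← this]; exact hd

/-- The socle: elements killed by all homogeneous elements of positive degree. -/
def soc : Submodule R M where
  carrier := {x | ∀ p : ℤ, 0 < p → ∀ r ∈ 𝒜 p, r • x = 0}
  add_mem' {x y} hx hy p hp r hr := by rw [smul_add, hx p hp r hr, hy p hp r hr, add_zero]
  zero_mem' p _ r _ := smul_zero r
  smul_mem' s x hx p hp r hr := by rw [smul_comm, hx p hp r hr, smul_zero]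

theorem mem_soc {x : M} : x ∈ soc 𝒜 (M := M) ↔ ∀ p : ℤ, 0 < p → ∀ r ∈ 𝒜 p, r • x = 0 := Iff.rfl

theorem projM_mem_soc {x : M} (hx : x ∈ soc 𝒜 (M := M)) (j : ℤ) : projM ℳ j x ∈ soc 𝒜 (M := M) := by
  intro p hp r hr
  have := projM_smul_of_mem 𝒜 ℳ hr (j + p) x
  rw [add_sub_cancel_right] at this
  rw [← this, hx p hp r hr, map_zero]

include hpos h0 in
/-- on the socle, `R` acts through scalars -/
theorem smul_soc {x : M} (hx : x ∈ soc 𝒜 (M := M)) (r : R) : ∃ c : k, r • x = c • x := by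
  induction r using DirectSum.Decomposition.inductionOn 𝒜 with
  | zero => exact ⟨0, by simp⟩
  | add a b ha hb =>
    obtain ⟨c, hc⟩ := ha
    obtain ⟨c', hc'⟩ := hb
    exact ⟨c + c', by rw [add_smul, hc, hc', add_smul]⟩
  | homogeneous r =>
    rename_i p
    rcases lt_trichotomy p 0 with hp | hp | hp
    · have : (r : R) = 0 := by
        have h' : (r : R) ∈ (⊥ : Submodule k R) := by rw [← hpos p hp]; exact r.2
        exact (Submodule.mem_bot k).1 h'
      exact ⟨0, by rw [this, zero_smul, zero_smul]⟩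
    · subst hp
      have h' : (r : R) ∈ Submodule.span k {(1 : R)} := by rw [← h0]; exact r.2
      obtain ⟨c, hc⟩ := Submodule.mem_span_singleton.1 h'
      exact ⟨c, by rw [← hc, smul_assoc, one_smul]⟩
    · exact ⟨0, by rw [zero_smul]; exact hx p hp r r.2⟩

include hpos h0 in
/-- The socle of an Artinian module is finite-dimensional. -/
theorem finite_soc [IsArtinian R M] :
    Module.Finite k ((soc 𝒜 (M := M)).restrictScalars k) := by
  set S : Submodule k M := (soc 𝒜 (M := M)).restrictScalars k with hS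
  let Φ : Submodule k S → Submodule R M := fun W =>
    { carrier := {x | ∃ h : x ∈ S, (⟨x, h⟩ : S) ∈ W}
      add_mem' := by
        rintro x y ⟨hx, hxW⟩ ⟨hy, hyW⟩
        exact ⟨S.add_mem hx hy, W.add_mem hxW hyW⟩
      zero_mem' := ⟨S.zero_mem, W.zero_mem⟩
      smul_mem' := by
        rintro r x ⟨hx, hxW⟩
        obtain ⟨c, hc⟩ := smul_soc 𝒜 hpos h0 hx r
        have hmem : r • x ∈ S := by rw [hc]; exact S.smul_mem c hx
        refine ⟨hmem, ?_⟩
        have : (⟨r • x, hmem⟩ : S) = c • ⟨x, hx⟩ := Subtype.ext hc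
        rw [this]
        exact W.smul_mem c hxW }
  have hΦ : StrictMono Φ := by
    apply strictMono_of_le_iff_le
    intro W W'
    constructor
    · rintro h x ⟨hx, hxW⟩
      exact ⟨hx, h hxW⟩
    · intro h w hw
      obtain ⟨_, hw'⟩ := h (show (w : M) ∈ Φ W from ⟨w.2, hw⟩)
      exact hw'
  haveI : WellFoundedLT (Submodule k S) := hΦ.wellFoundedLT
  haveI : IsArtinian k S := ⟨‹WellFoundedLT (Submodule k S)›.wf⟩
  haveI : IsNoetherian k S := IsSemiprimaryRing.isNoetherian_iff_isArtinian.mpr inferInstance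
  infer_instance

include hpos in
/-- An Artinian graded module is bounded above. -/
theorem bdd_above_of_artinian [IsArtinian R M] : ∃ t : ℤ, ∀ s, t < s → ∀ x ∈ ℳ s, x = 0 := by
  let f : ℕ →o (Submodule R M)ᵒᵈ :=
    { toFun := fun j => OrderDual.toDual (geN 𝒜 hpos ℳ (j : ℤ))
      monotone' := fun i j hij => by
        change geN 𝒜 hpos ℳ (j : ℤ) ≤ geN 𝒜 hpos ℳ (i : ℤ)
        exact geN_mono 𝒜 hpos ℳ (by exact_mod_cast hij) }
  obtain ⟨n, hn⟩ := IsArtinian.monotone_stabilizes f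
  refine ⟨n, fun s hs x hx => ?_⟩
  have hs0 : 0 ≤ s := by omega
  obtain ⟨s', rfl⟩ := Int.eq_ofNat_of_zero_le hs0
  have h1 : x ∈ geN 𝒜 hpos ℳ (n : ℤ) := mem_geN_of_mem 𝒜 hpos ℳ hs.le hx
  have h2 : geN 𝒜 hpos ℳ (n : ℤ) = geN 𝒜 hpos ℳ ((s' + 1 : ℕ) : ℤ) := by
    have := hn (s' + 1) (by omega)
    exact congrArg OrderDual.ofDual this
  rw [h2] at h1
  have h3 := h1 (s' : ℤ) (by push_cast; omega)
  rw [projM_of_mem_same ℳ hx] at h3
  exact h3

include hpos in
/-- Every nonzero homogeneous element of an Artinian graded module has a nonzero homogeneous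
multiple in the socle. -/
theorem exists_smul_mem_soc [IsArtinian R M] {g : ℤ} {x : M} (hx : x ∈ ℳ g) (hx0 : x ≠ 0) :
    ∃ (j : ℤ) (r : R), r • x ∈ ℳ j ∧ r • x ≠ 0 ∧ r • x ∈ soc 𝒜 (M := M) := by
  obtain ⟨t, ht⟩ := bdd_above_of_artinian 𝒜 hpos ℳ
  have h1mem : (1 : R) ∈ 𝒜 0 := SetLike.GradedOne.one_mem
  have hbdd : ∀ j, (∃ r ∈ 𝒜 (j - g), r • x ≠ 0) → j ≤ t := by
    rintro j ⟨r, hr, hrx⟩
    by_contra hj
    push_neg at hj
    apply hrx
    apply ht j hj
    have := smul_mem 𝒜 ℳ hr hx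
    rwa [sub_add_cancel] at this
  obtain ⟨j₀, ⟨r₀, hr₀, hr₀x⟩, hmax⟩ := Int.exists_greatest_of_bdd ⟨t, hbdd⟩
    ⟨g, 1, by rw [sub_self]; exact h1mem, by rw [one_smul]; exact hx0⟩
  refine ⟨j₀, r₀, ?_, hr₀x, ?_⟩
  · have := smul_mem 𝒜 ℳ hr₀ hx
    rwa [sub_add_cancel] at this
  · intro p hp s hs
    by_contra hne
    rw [smul_smul] at hne
    have hmem : s * r₀ ∈ 𝒜 (p + j₀ - g) := by
      have := SetLike.mul_mem_graded hs hr₀
      rwa [← add_sub_assoc] at this
    have := hmax (p + j₀) ⟨s * r₀, hmem, hne⟩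
    omega

include hpos h0 hD in
/-- An Artinian graded module embeds into a finite sum of shifted copies of `R^*`. -/
theorem exists_embedding [IsArtinian R M] :
    ∃ (t : ℕ) (sh : Fin t → ℤ) (f : M →ₗ[R] (Fin t → D)), Function.Injective f ∧
      ∀ (i : Fin t) (g : ℤ) (x : M), x ∈ ℳ g → f x i ∈ 𝒟 (g + sh i) := by
  classical
  set S : Submodule k M := (soc 𝒜 (M := M)).restrictScalars k with hS
  haveI : Module.Finite k S := finite_soc 𝒜 hpos h0 (M := M)
  let b := Module.finBasis k S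
  choose ext hext using fun i => LinearMap.exists_extend (b.coord i)
  let Deg : Finset ℤ := Finset.univ.biUnion fun i => (DirectSum.decompose ℳ (b i : M)).support
  let ι := Fin (Module.finrank k S) × {n // n ∈ Deg}
  let e : ι ≃ Fin (Fintype.card ι) := Fintype.equivFin ι
  let lam : ι → (M →ₗ[k] k) := fun p => ext p.1 ∘ₗ projL 𝒜 ℳ p.2.1
  have hlam_apply : ∀ p x, lam p x = ext p.1 (projM ℳ p.2.1 x) := fun _ _ => rfl
  have hlam : ∀ p x, lam p x = lam p (projM ℳ p.2.1 x) := fun p x => by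
    rw [hlam_apply, hlam_apply, projM_projM_same]
  choose h hβ hdeg using fun p => exists_homOfFunctional 𝒜 𝒟 β hD ℳ (lam p) p.2.1 (hlam p)
  refine ⟨Fintype.card ι, fun j => - (e.symm j).2.1, LinearMap.pi (fun j => h (e.symm j)), ?_, ?_⟩
  · rw [← LinearMap.ker_eq_bot, LinearMap.ker_eq_bot']
    intro x hx
    by_contra hx0
    have hK : ∀ (p : ι) (r : R), lam p (r • x) = 0 := by
      intro p r
      have h1 : h p x = 0 := by
        have := congrFun hx (e p)
        simpa using this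
      rw [← hβ, h1, map_zero, LinearMap.zero_apply]
    obtain ⟨g, hg⟩ : ∃ g, projM ℳ g x ≠ 0 := by
      by_contra hcon
      push_neg at hcon
      exact hx0 (eq_zero_of_projM_eq_zero ℳ hcon)
    have hKg : ∀ (p : ι) (r : R), lam p (r • projM ℳ g x) = 0 := by
      intro p r
      induction r using DirectSum.Decomposition.inductionOn 𝒜 with
      | zero => simp
      | add a b ha hb => rw [add_smul, map_add, ha, hb, add_zero]
      | homogeneous r =>
        rename_i q
        have h1 := projM_smul_of_mem 𝒜 ℳ r.2 (g + q) x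
        rw [add_sub_cancel_right] at h1
        rw [← h1, hlam_apply]
        by_cases hgq : g + q = p.2.1
        · rw [hgq, projM_projM_same, ← hlam_apply]
          exact hK p r
        · rw [projM_projM_ne ℳ hgq, map_zero]
    obtain ⟨j, r, hrj, hr0, hrsoc⟩ := exists_smul_mem_soc 𝒜 hpos ℳ (projM_mem ℳ g x) hg
    set y := r • projM ℳ g x with hy
    have hyK : ∀ p, lam p y = 0 := fun p => hKg p r
    have hyS : y ∈ S := hrsoc
    have hjDeg : j ∈ Deg := by
      by_contra hj
      apply hr0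
      have h1 : y = ∑ i, (b.repr ⟨y, hyS⟩ i) • (b i : M) := by
        have := congrArg (S.subtype) (b.sum_repr ⟨y, hyS⟩)
        rw [map_sum] at this
        simpa using this.symm
      rw [← projM_of_mem_same ℳ hrj, h1, map_sum]
      refine Finset.sum_eq_zero fun i _ => ?_
      rw [← projL_apply 𝒜 ℳ, map_smul, projL_apply]
      have : projM ℳ j (b i : M) = 0 := by
        rw [projM_apply]
        have hnot : j ∉ (DirectSum.decompose ℳ (b i : M)).support := fun hmem =>
          hj (Finset.mem_biUnion.2 ⟨i, Finset.mem_univ _, hmem⟩)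
        rw [DFinsupp.notMem_support_iff] at hnot
        rw [hnot]; rfl
      rw [this, smul_zero]
    have hcoord : ∀ i, b.coord i ⟨y, hyS⟩ = 0 := by
      intro i
      have := hyK (i, ⟨j, hjDeg⟩)
      rw [hlam_apply, projM_of_mem_same ℳ hrj] at this
      rw [← hext i]
      exact this
    have : (⟨y, hyS⟩ : S) = 0 := b.forall_coord_eq_zero_iff.1 hcoord
    exact hr0 (congrArg Subtype.val this)
  · intro j g x hx
    rw [LinearMap.pi_apply]
    have := hdeg (e.symm j) g x hx
    rwa [sub_eq_add_neg] at this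

end Embed

end Groth.Agent.H9.GrDual
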