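import Mathlib
import Groth.Agent.Lib.Helper9.GrDual.Hom

/-!
# The graded dual `R^*` is the *injective hull of `R/m` (helper9)
-/

set_option autoImplicit false
set_option linter.unusedSectionVars false

namespace Groth.Agent.H9.GrDual

open DirectSum Groth.Agent.H9.GrProj

universe u

section InjHull

variable {k : Type u} [Field k] {R : Type u} [CommRing R] [Algebra k R]
  (𝒜 : ℤ → Submodule k R) [GradedAlgebra 𝒜]
  (hpos : ∀ n : ℤ, n < 0 → 𝒜 n = ⊥) (h0 : 𝒜 0 = Submodule.span k {(1 : R)})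
  {D : Type u} [AddCommGroup D] [Module R D] [Module k D] [IsScalarTower k R D]
  (𝒟 : ℤ → AddSubgroup D) [DirectSum.Decomposition 𝒟] [SetLike.GradedSMul 𝒜 𝒟]
  (β : D →ₗ[k] R →ₗ[k] k) (hD : GrSeg.IsGDual R 𝒜 𝒟 β)

include hD in
theorem beta_apply_eq (d : D) (r : R) : β d r = β (r • d) 1 := by
  rw [hD.map_smul, smul_eq_mul, mul_one]

include hD in
/-- `R^*` is *injective. -/
theorem isStarInj : GrLC.IsStarInj 𝒜 𝒟 := by
  intro A B f hf hinj g hg
  letI : Module k A.carrier := Module.compHom _ (algebraMap k R)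
  haveI : IsScalarTower k R A.carrier := IsScalarTower.of_algebraMap_smul fun _ _ => rfl
  letI : Module k B.carrier := Module.compHom _ (algebraMap k R)
  haveI : IsScalarTower k R B.carrier := IsScalarTower.of_algebraMap_smul fun _ _ => rfl
  have h1mem : (1 : R) ∈ 𝒜 0 := SetLike.GradedOne.one_mem
  let lA : A.carrier →ₗ[k] k := (β.flip 1) ∘ₗ (g.restrictScalars k)
  have hlA : ∀ a, lA a = β (g a) 1 := fun _ => rfl
  have hlA0 : ∀ a, lA (projM A.gr 0 a) = lA a := by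
    intro a
    rw [hlA, hlA, apply_proj_of_mem 𝒜 𝒟 β hD h1mem (g a), neg_zero,
      projM_map A.gr 𝒟 g hg]
  obtain ⟨ρ, hρ⟩ := (f.restrictScalars k).exists_leftInverse_of_injective
    (LinearMap.ker_eq_bot.2 hinj)
  have hρ' : ∀ a, ρ (f a) = a := fun a => LinearMap.congr_fun hρ a
  let lB : B.carrier →ₗ[k] k := lA ∘ₗ ρ ∘ₗ projL 𝒜 B.gr 0
  have hlB : ∀ b, lB b = lA (ρ (projM B.gr 0 b)) := fun _ => rfl
  -- existence for homogeneous elements
  have hex_hom : ∀ n, ∀ b ∈ B.gr n, ∃ d ∈ 𝒟 n, ∀ r, β d r = lB (r • b) := by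
    intro n b hb
    let G : R →ₗ[k] k := lB ∘ₗ ((LinearMap.toSpanSingleton R B.carrier b).restrictScalars k)
    have hG : ∀ r, G r = lB (r • b) := fun _ => rfl
    obtain ⟨d, hd, hdx⟩ := exists_of_functional 𝒜 𝒜 𝒟 β hD G n
    refine ⟨d, hd, fun r => ?_⟩
    rw [hdx, hG, hlB, hlB]
    congr 2
    rw [projM_smul_of_mem' 𝒜 B.gr hb 0 r, zero_sub, projM_apply]
    refine projM_of_mem_same B.gr ?_
    have := smul_mem 𝒜 B.gr (SetLike.coe_mem ((DirectSum.decompose 𝒜 r) (-n))) hb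
    rwa [neg_add_cancel] at this
  have hex : ∀ b : B.carrier, ∃ d : D, ∀ r, β d r = lB (r • b) := by
    intro b
    induction b using DirectSum.Decomposition.inductionOn B.gr with
    | zero => exact ⟨0, fun r => by simp⟩
    | add x y hx hy =>
      obtain ⟨d, hd⟩ := hx
      obtain ⟨d', hd'⟩ := hy
      exact ⟨d + d', fun r => by rw [map_add, LinearMap.add_apply, hd, hd', smul_add, map_add]⟩
    | homogeneous b =>
      rename_i n
      obtain ⟨d, -, hd⟩ := hex_hom n b b.2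
      exact ⟨d, hd⟩
  choose h₀ hh₀ using hex
  have huniq : ∀ b d, (∀ r, β d r = lB (r • b)) → d = h₀ b := fun b d h =>
    ext_D 𝒜 𝒟 β hD (fun r => by rw [h, hh₀])
  let h : B.carrier →ₗ[R] D :=
    { toFun := h₀
      map_add' := fun x y => by
        symm; apply huniq; intro r
        rw [map_add, LinearMap.add_apply, hh₀, hh₀, smul_add, map_add]
      map_smul' := fun s b => by
        symm; apply huniq; intro r
        rw [RingHom.id_apply, hD.map_smul, hh₀, smul_eq_mul, mul_smul, smul_comm] }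
  refine ⟨h, ?_, ?_⟩
  · intro n b hb
    obtain ⟨d, hd, hdr⟩ := hex_hom n b hb
    have : d = h₀ b := huniq b d hdr
    change h₀ b ∈ 𝒟 n
    rw [← this]; exact hd
  · ext a
    change h₀ (f a) = g a
    symm
    apply huniq
    intro r
    rw [beta_apply_eq 𝒜 𝒟 β hD, ← map_smul, ← hlA, ← map_smul, hlB, projM_map A.gr B.gr f hf, hρ', hlA0]

include hpos in
/-- elements of `R_+` have vanishing degree-0 component -/
theorem proj_zero_of_mem_irrelevant {x : R}
    (hx : x ∈ Ideal.span (⋃ n ∈ Set.Ioi (0 : ℤ), (𝒜 n : Set R))) : projM 𝒜 0 x = 0 := by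
  have hle : Ideal.span (⋃ n ∈ Set.Ioi (0 : ℤ), (𝒜 n : Set R)) ≤ geN 𝒜 hpos 𝒜 1 := by
    rw [Ideal.span_le]
    intro y hy
    simp only [Set.mem_iUnion] at hy
    obtain ⟨n, hn, hyn⟩ := hy
    exact mem_geN_of_mem 𝒜 hpos 𝒜 (show (1 : ℤ) ≤ n from hn) hyn
  exact hle hx 0 one_pos

include hpos h0 hD in
/-- `R^*` is the *injective hull of `R/m`. -/
theorem isStarInjHull (mR : HomogeneousIdeal 𝒜)
    (hmR : mR.toIdeal = Ideal.span (⋃ n ∈ Set.Ioi (0 : ℤ), (𝒜 n : Set R)))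
    (e : (R ⧸ mR.toIdeal) →ₗ[R] D) (he : Function.Injective e)
    (hegr : GrLC.IsGrHom (GrLC.quotGr 𝒜 mR) 𝒟 e) :
    GrLC.IsStarInjHull 𝒜 (GrLC.quotGr 𝒜 mR) 𝒟 e := by
  have h1mem : (1 : R) ∈ 𝒜 0 := SetLike.GradedOne.one_mem
  -- every element of `𝒟 0` lies in the range of `e`
  have hrange : ∀ d' ∈ 𝒟 0, d' ∈ LinearMap.range e := by
    intro d' hd'
    set ε : D := e (Ideal.Quotient.mk mR.toIdeal 1) with hε
    have hεmem : ε ∈ 𝒟 0 := hegr 0 _ ⟨1, h1mem, rfl⟩
    have h𝒜0 : ∀ x ∈ 𝒜 (-0), ∃ t : k, x = t • (1 : R) := by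
      intro x hx
      rw [neg_zero, h0] at hx
      obtain ⟨t, ht⟩ := Submodule.mem_span_singleton.1 hx
      exact ⟨t, ht.symm⟩
    by_cases hc : β ε 1 = 0
    · have hε0 : ε = 0 := by
        apply hD.eq_zero 0 ε hεmem
        intro x hx
        obtain ⟨t, rfl⟩ := h𝒜0 x hx
        rw [map_smul, hc, smul_zero]
      have h1 : (Ideal.Quotient.mk mR.toIdeal 1) = 0 := he (by rw [← hε, hε0, map_zero])
      rw [Ideal.Quotient.eq_zero_iff_mem, hmR] at h1
      have h2 := proj_zero_of_mem_irrelevant 𝒜 hpos h1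
      rw [projM_of_mem_same 𝒜 h1mem] at h2
      have : d' = 0 := by rw [← one_smul R d', h2, zero_smul]
      rw [this]; exact Submodule.zero_mem _
    · have hd'ε : d' = (β d' 1 / β ε 1) • ε := by
        rw [← sub_eq_zero]
        apply hD.eq_zero 0 _ (sub_mem hd' (ksmul_mem 𝒜 𝒟 _ hεmem))
        intro x hx
        obtain ⟨t, rfl⟩ := h𝒜0 x hx
        rw [map_sub, LinearMap.sub_apply, map_smul, map_smul (β _), map_smul β,
          LinearMap.smul_apply, smul_eq_mul, smul_eq_mul, smul_eq_mul, div_mul_cancel₀ _ hc,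
          sub_self]
      rw [hd'ε, ← algebraMap_smul R, hε, ← map_smul]
      exact ⟨_, rfl⟩
  refine { injective := he, grHom := hegr, essential := ?_, starInj := isStarInj 𝒜 𝒟 β hD }
  intro P hP hne
  obtain ⟨d, hdP, hd0⟩ := Submodule.exists_mem_ne_zero_of_ne_bot hne
  obtain ⟨n, hn⟩ : ∃ n, projM 𝒟 n d ≠ 0 := by
    by_contra hcon
    push_neg at hcon
    exact hd0 (eq_zero_of_projM_eq_zero 𝒟 hcon)
  have hdnP : projM 𝒟 n d ∈ P := hP n hdP
  obtain ⟨r, hr, hrd⟩ : ∃ r ∈ 𝒜 (-n), β (projM 𝒟 n d) r ≠ 0 := by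
    by_contra hcon
    push_neg at hcon
    exact hn (hD.eq_zero n _ (projM_mem 𝒟 n d) hcon)
  have hd'0 : r • projM 𝒟 n d ∈ 𝒟 0 := by
    have := smul_mem 𝒜 𝒟 hr (projM_mem 𝒟 n d)
    rwa [neg_add_cancel] at this
  have hd'ne : r • projM 𝒟 n d ≠ 0 := by
    intro h
    apply hrd
    rw [beta_apply_eq 𝒜 𝒟 β hD, h, map_zero, LinearMap.zero_apply]
  intro hbot
  have : r • projM 𝒟 n d ∈ P ⊓ LinearMap.range e :=
    ⟨P.smul_mem r hdnP, hrange _ hd'0⟩
  rw [hbot, Submodule.mem_bot] at this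
  exact hd'ne this

end InjHull

end Groth.Agent.H9.GrDual
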